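import Cfsg.Agent.Helper80.Tor.Defs
import Cfsg.Agent.Helper19.Poinc.Data
import Cfsg.Agent.Helper18.TorusH
import Cfsg.Agent.Helper18.Weyl

/-!
Helper36, Chevalley side of helper80's S2372/S2375 (`TorData` for `F₄`, `E₈`): shared definitions.

* `chrD D s c = ∏ i, c i ^ D.cartan i s`: the value of the root `s` on the torus element `torusHom D K c`.
* `refM D i`: the integer matrix of the fundamental reflection `s_i` on the torus coordinates
  (`n_i τ(c) n_i⁻¹ = τ (zact (refM D i) c)`): the identity except for the column `i`, which is `δ_{j i} - ⟨p_i, p_j^∨⟩`.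
* `wordM D w`: the product of the `refM D i` along the word `w`.
* the table conditions `cartanReflOK`, `charSepOK` (checked by `decide +kernel` for each type).
-/

set_option autoImplicit false

namespace Cfsg.Agent.Helper36.TorD

open Cfsg Cfsg.Lie Cfsg.Agent.Helper18 Cfsg.Agent.Helper19.Cox Cfsg.Agent.Helper19.Poinc

variable (D : ChevalleyDatum)

/-- the value of the root `s` on `∏ h_{p_i}(c_i)` -/
def chrD {K : Type*} [Field K] (s : ℕ) (c : Fin D.rank → Kˣ) : Kˣ := ∏ i : Fin D.rank, c i ^ D.cartan i.val s

/-- the integer matrix of the `i`-th fundamental reflection on the torus coordinates -/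
def refM (i : ℕ) : Matrix (Fin D.rank) (Fin D.rank) ℤ :=
  fun j k => (if j = k then 1 else 0) - (if k.val = i then D.cartan j.val (D.simple i) else 0)

/-- the product of the reflection matrices along a word -/
def wordM (w : List ℕ) : Matrix (Fin D.rank) (Fin D.rank) ℤ := (w.map (refM D)).prod

/-- the reflection matrices are involutions -/
def RefSq : Prop := ∀ i : Fin D.rank, refM D i.val * refM D i.val = 1

/-- the reflection matrices as units -/
def refU (h : RefSq D) (i : Fin D.rank) : (Matrix (Fin D.rank) (Fin D.rank) ℤ)ˣ :=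
  ⟨refM D i.val, refM D i.val, h i, h i⟩

/-- `⟨s_i s, p_j^∨⟩ = ⟨s, p_j^∨⟩ - ⟨s, p_i^∨⟩ ⟨p_i, p_j^∨⟩` -/
def cartanReflOK : Bool :=
  (List.range D.rank).all fun i => (List.range D.rank).all fun j => (List.range D.nroots).all fun s =>
    decide (D.cartan j (D.reflectRoot i s) = D.cartan j s - D.cartan i s * D.cartan j (D.simple i))

/-- distinct roots are separated by a coroot, with a difference of absolute value below `16` -/
def charSepOK : Bool :=
  (List.range D.nroots).all fun s => (List.range D.nroots).all fun s' =>
    (s == s') || (List.range D.rank).any fun i =>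
      decide (D.cartan i s ≠ D.cartan i s') && decide ((D.cartan i s - D.cartan i s').natAbs < 16)

/-- `⟨-s, p_i^∨⟩ = -⟨s, p_i^∨⟩` -/
def cartanNegOK : Bool :=
  (List.range D.rank).all fun i => (List.range D.nroots).all fun s =>
    decide (D.cartan i (D.neg s) = - D.cartan i s)

/-- the homomorphism `W → GL_l(ℤ)`, `s_i ↦ refM D i` -/
noncomputable def rhoHom (C : Cert D) (h : RefSq D) (hl : C.M.IsLiftable (refU D h)) :
    C.M.Group →* (Matrix (Fin D.rank) (Fin D.rank) ℤ)ˣ :=
  C.M.toCoxeterSystem.lift ⟨refU D h, hl⟩

end Cfsg.Agent.Helper36.TorD
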