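import Cfsg.Agent.Helper36.TorD.Defs
import Cfsg.Agent.Helper18.WeylPerm

/-!
Helper36, TorData (helper80's S2372/S2375): the table conditions on the Cartan integers:
`cartanReflOK` for every tabulated type (from helper18's `cartan_reflect`), and `charSepOK` for `E₈`
(through the literal table of the `240` columns of Cartan integers, which are pairwise distinct).
-/

set_option autoImplicit false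
set_option maxRecDepth 100000

namespace Cfsg.Agent.Helper36.TorD.Tab8

open Cfsg Cfsg.Lie Cfsg.Agent.Helper18 Cfsg.Agent.Helper36.TorD

/-- (CR) for every tabulated type -/
theorem cartanReflOK_of_mem (D : ChevalleyDatum)
    (hD : D ∈ [chevG2, chevB2, chevD4, chevF4, chevE6, chevE7, chevE8]) : cartanReflOK D = true := by
  unfold cartanReflOK
  rw [List.all_eq_true]
  intro i hi
  rw [List.all_eq_true]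
  intro j hj
  rw [List.all_eq_true]
  intro s hs
  rw [decide_eq_true_eq]
  exact cartan_reflect D hD i j s (List.mem_range.mp hi) (List.mem_range.mp hj) (List.mem_range.mp hs)

/-- (CR8) -/
theorem cartanReflOK_E8 : cartanReflOK chevE8 = true := cartanReflOK_of_mem chevE8 (by simp)

/-- the columns of Cartan integers of the `240` roots of `E₈` -/
def colsE8 : List (List ℤ) :=
  [[0, 0, 0, 0, 0, 0, 0, -1], [0, 0, 0, 0, 0, 0, -1, 1], [0, 0, 0, 0, 0, -1, 1, 0], [0, 0, 0, 0, -1, 1, 0, 0],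
  [0, 0, 0, -1, 1, 0, 0, 0], [0, -1, -1, 1, 0, 0, 0, 0], [-1, -1, 1, 0, 0, 0, 0, 0], [0, 1, -1, 0, 0, 0, 0,
  0], [-1, 1, 1, -1, 0, 0, 0, 0], [-1, 0, 0, 1, -1, 0, 0, 0], [-1, 0, 0, 0, 1, -1, 0, 0], [-1, 0, 0, 0, 0, 1,
  -1, 0], [-1, 0, 0, 0, 0, 0, 1, -1], [-1, 0, 0, 0, 0, 0, 0, 1], [1, -1, 0, 0, 0, 0, 0, 0], [1, 1, 0, -1, 0,
  0, 0, 0], [1, 0, -1, 1, -1, 0, 0, 0], [1, 0, -1, 0, 1, -1, 0, 0], [1, 0, -1, 0, 0, 1, -1, 0], [1, 0, -1, 0,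
  0, 0, 1, -1], [1, 0, -1, 0, 0, 0, 0, 1], [0, 0, 1, 0, -1, 0, 0, 0], [0, 0, 1, -1, 1, -1, 0, 0], [0, 0, 1,
  -1, 0, 1, -1, 0], [0, 0, 1, -1, 0, 0, 1, -1], [0, 0, 1, -1, 0, 0, 0, 1], [0, -1, 0, 1, 0, -1, 0, 0], [0, -1,
  0, 1, -1, 1, -1, 0], [0, -1, 0, 1, -1, 0, 1, -1], [0, -1, 0, 1, -1, 0, 0, 1], [0, -1, 0, 0, 1, 0, -1, 0],
  [0, -1, 0, 0, 1, -1, 1, -1], [0, -1, 0, 0, 1, -1, 0, 1], [0, -1, 0, 0, 0, 1, 0, -1], [0, -1, 0, 0, 0, 1, -1,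
  1], [0, -1, 0, 0, 0, 0, 1, 0], [0, 1, 0, 0, 0, -1, 0, 0], [0, 1, 0, 0, -1, 1, -1, 0], [0, 1, 0, 0, -1, 0, 1,
  -1], [0, 1, 0, 0, -1, 0, 0, 1], [0, 1, 0, -1, 1, 0, -1, 0], [0, 1, 0, -1, 1, -1, 1, -1], [0, 1, 0, -1, 1,
  -1, 0, 1], [0, 1, 0, -1, 0, 1, 0, -1], [0, 1, 0, -1, 0, 1, -1, 1], [0, 1, 0, -1, 0, 0, 1, 0], [0, 0, -1, 1,
  0, 0, -1, 0], [0, 0, -1, 1, 0, -1, 1, -1], [0, 0, -1, 1, 0, -1, 0, 1], [0, 0, -1, 1, -1, 1, 0, -1], [0, 0,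
  -1, 1, -1, 1, -1, 1], [0, 0, -1, 1, -1, 0, 1, 0], [0, 0, -1, 0, 1, 0, 0, -1], [0, 0, -1, 0, 1, 0, -1, 1],
  [0, 0, -1, 0, 1, -1, 1, 0], [0, 0, -1, 0, 0, 1, 0, 0], [-1, 0, 1, 0, 0, 0, -1, 0], [-1, 0, 1, 0, 0, -1, 1,
  -1], [-1, 0, 1, 0, 0, -1, 0, 1], [-1, 0, 1, 0, -1, 1, 0, -1], [-1, 0, 1, 0, -1, 1, -1, 1], [-1, 0, 1, 0, -1,
  0, 1, 0], [-1, 0, 1, -1, 1, 0, 0, -1], [-1, 0, 1, -1, 1, 0, -1, 1], [-1, 0, 1, -1, 1, -1, 1, 0], [-1, 0, 1,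
  -1, 0, 1, 0, 0], [-1, -1, 0, 1, 0, 0, 0, -1], [-1, -1, 0, 1, 0, 0, -1, 1], [-1, -1, 0, 1, 0, -1, 1, 0], [-1,
  -1, 0, 1, -1, 1, 0, 0], [-1, -1, 0, 0, 1, 0, 0, 0], [-1, 1, 0, 0, 0, 0, 0, -1], [-1, 1, 0, 0, 0, 0, -1, 1],
  [-1, 1, 0, 0, 0, -1, 1, 0], [-1, 1, 0, 0, -1, 1, 0, 0], [-1, 1, 0, -1, 1, 0, 0, 0], [-1, 0, -1, 1, 0, 0, 0,
  0], [-2, 0, 1, 0, 0, 0, 0, 0], [1, 0, 0, 0, 0, 0, -1, 0], [1, 0, 0, 0, 0, -1, 1, -1], [1, 0, 0, 0, 0, -1, 0,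
  1], [1, 0, 0, 0, -1, 1, 0, -1], [1, 0, 0, 0, -1, 1, -1, 1], [1, 0, 0, 0, -1, 0, 1, 0], [1, 0, 0, -1, 1, 0,
  0, -1], [1, 0, 0, -1, 1, 0, -1, 1], [1, 0, 0, -1, 1, -1, 1, 0], [1, 0, 0, -1, 0, 1, 0, 0], [1, -1, -1, 1, 0,
  0, 0, -1], [1, -1, -1, 1, 0, 0, -1, 1], [1, -1, -1, 1, 0, -1, 1, 0], [1, -1, -1, 1, -1, 1, 0, 0], [1, -1,
  -1, 0, 1, 0, 0, 0], [0, -1, 1, 0, 0, 0, 0, -1], [0, -1, 1, 0, 0, 0, -1, 1], [0, -1, 1, 0, 0, -1, 1, 0], [0,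
  -1, 1, 0, -1, 1, 0, 0], [0, -1, 1, -1, 1, 0, 0, 0], [0, -2, 0, 1, 0, 0, 0, 0], [1, 1, -1, 0, 0, 0, 0, -1],
  [1, 1, -1, 0, 0, 0, -1, 1], [1, 1, -1, 0, 0, -1, 1, 0], [1, 1, -1, 0, -1, 1, 0, 0], [1, 1, -1, -1, 1, 0, 0,
  0], [1, 0, -2, 1, 0, 0, 0, 0], [0, 1, 1, -1, 0, 0, 0, -1], [0, 1, 1, -1, 0, 0, -1, 1], [0, 1, 1, -1, 0, -1,
  1, 0], [0, 1, 1, -1, -1, 1, 0, 0], [0, 1, 1, -2, 1, 0, 0, 0], [0, 0, 0, 1, -1, 0, 0, -1], [0, 0, 0, 1, -1,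
  0, -1, 1], [0, 0, 0, 1, -1, -1, 1, 0], [0, 0, 0, 1, -2, 1, 0, 0], [0, 0, 0, 0, 1, -1, 0, -1], [0, 0, 0, 0,
  1, -1, -1, 1], [0, 0, 0, 0, 1, -2, 1, 0], [0, 0, 0, 0, 0, 1, -1, -1], [0, 0, 0, 0, 0, 1, -2, 1], [0, 0, 0,
  0, 0, 0, 1, -2], [0, 0, 0, 0, 0, 0, -1, 2], [0, 0, 0, 0, 0, -1, 2, -1], [0, 0, 0, 0, 0, -1, 1, 1], [0, 0, 0,
  0, -1, 2, -1, 0], [0, 0, 0, 0, -1, 1, 1, -1], [0, 0, 0, 0, -1, 1, 0, 1], [0, 0, 0, -1, 2, -1, 0, 0], [0, 0,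
  0, -1, 1, 1, -1, 0], [0, 0, 0, -1, 1, 0, 1, -1], [0, 0, 0, -1, 1, 0, 0, 1], [0, -1, -1, 2, -1, 0, 0, 0], [0,
  -1, -1, 1, 1, -1, 0, 0], [0, -1, -1, 1, 0, 1, -1, 0], [0, -1, -1, 1, 0, 0, 1, -1], [0, -1, -1, 1, 0, 0, 0,
  1], [-1, 0, 2, -1, 0, 0, 0, 0], [-1, -1, 1, 1, -1, 0, 0, 0], [-1, -1, 1, 0, 1, -1, 0, 0], [-1, -1, 1, 0, 0,
  1, -1, 0], [-1, -1, 1, 0, 0, 0, 1, -1], [-1, -1, 1, 0, 0, 0, 0, 1], [0, 2, 0, -1, 0, 0, 0, 0], [0, 1, -1, 1,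
  -1, 0, 0, 0], [0, 1, -1, 0, 1, -1, 0, 0], [0, 1, -1, 0, 0, 1, -1, 0], [0, 1, -1, 0, 0, 0, 1, -1], [0, 1, -1,
  0, 0, 0, 0, 1], [-1, 1, 1, 0, -1, 0, 0, 0], [-1, 1, 1, -1, 1, -1, 0, 0], [-1, 1, 1, -1, 0, 1, -1, 0], [-1,
  1, 1, -1, 0, 0, 1, -1], [-1, 1, 1, -1, 0, 0, 0, 1], [-1, 0, 0, 1, 0, -1, 0, 0], [-1, 0, 0, 1, -1, 1, -1, 0],
  [-1, 0, 0, 1, -1, 0, 1, -1], [-1, 0, 0, 1, -1, 0, 0, 1], [-1, 0, 0, 0, 1, 0, -1, 0], [-1, 0, 0, 0, 1, -1, 1,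
  -1], [-1, 0, 0, 0, 1, -1, 0, 1], [-1, 0, 0, 0, 0, 1, 0, -1], [-1, 0, 0, 0, 0, 1, -1, 1], [-1, 0, 0, 0, 0, 0,
  1, 0], [2, 0, -1, 0, 0, 0, 0, 0], [1, 0, 1, -1, 0, 0, 0, 0], [1, -1, 0, 1, -1, 0, 0, 0], [1, -1, 0, 0, 1,
  -1, 0, 0], [1, -1, 0, 0, 0, 1, -1, 0], [1, -1, 0, 0, 0, 0, 1, -1], [1, -1, 0, 0, 0, 0, 0, 1], [1, 1, 0, 0,
  -1, 0, 0, 0], [1, 1, 0, -1, 1, -1, 0, 0], [1, 1, 0, -1, 0, 1, -1, 0], [1, 1, 0, -1, 0, 0, 1, -1], [1, 1, 0,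
  -1, 0, 0, 0, 1], [1, 0, -1, 1, 0, -1, 0, 0], [1, 0, -1, 1, -1, 1, -1, 0], [1, 0, -1, 1, -1, 0, 1, -1], [1,
  0, -1, 1, -1, 0, 0, 1], [1, 0, -1, 0, 1, 0, -1, 0], [1, 0, -1, 0, 1, -1, 1, -1], [1, 0, -1, 0, 1, -1, 0, 1],
  [1, 0, -1, 0, 0, 1, 0, -1], [1, 0, -1, 0, 0, 1, -1, 1], [1, 0, -1, 0, 0, 0, 1, 0], [0, 0, 1, 0, 0, -1, 0,
  0], [0, 0, 1, 0, -1, 1, -1, 0], [0, 0, 1, 0, -1, 0, 1, -1], [0, 0, 1, 0, -1, 0, 0, 1], [0, 0, 1, -1, 1, 0,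
  -1, 0], [0, 0, 1, -1, 1, -1, 1, -1], [0, 0, 1, -1, 1, -1, 0, 1], [0, 0, 1, -1, 0, 1, 0, -1], [0, 0, 1, -1,
  0, 1, -1, 1], [0, 0, 1, -1, 0, 0, 1, 0], [0, -1, 0, 1, 0, 0, -1, 0], [0, -1, 0, 1, 0, -1, 1, -1], [0, -1, 0,
  1, 0, -1, 0, 1], [0, -1, 0, 1, -1, 1, 0, -1], [0, -1, 0, 1, -1, 1, -1, 1], [0, -1, 0, 1, -1, 0, 1, 0], [0,
  -1, 0, 0, 1, 0, 0, -1], [0, -1, 0, 0, 1, 0, -1, 1], [0, -1, 0, 0, 1, -1, 1, 0], [0, -1, 0, 0, 0, 1, 0, 0],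
  [0, 1, 0, 0, 0, 0, -1, 0], [0, 1, 0, 0, 0, -1, 1, -1], [0, 1, 0, 0, 0, -1, 0, 1], [0, 1, 0, 0, -1, 1, 0,
  -1], [0, 1, 0, 0, -1, 1, -1, 1], [0, 1, 0, 0, -1, 0, 1, 0], [0, 1, 0, -1, 1, 0, 0, -1], [0, 1, 0, -1, 1, 0,
  -1, 1], [0, 1, 0, -1, 1, -1, 1, 0], [0, 1, 0, -1, 0, 1, 0, 0], [0, 0, -1, 1, 0, 0, 0, -1], [0, 0, -1, 1, 0,
  0, -1, 1], [0, 0, -1, 1, 0, -1, 1, 0], [0, 0, -1, 1, -1, 1, 0, 0], [0, 0, -1, 0, 1, 0, 0, 0], [-1, 0, 1, 0,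
  0, 0, 0, -1], [-1, 0, 1, 0, 0, 0, -1, 1], [-1, 0, 1, 0, 0, -1, 1, 0], [-1, 0, 1, 0, -1, 1, 0, 0], [-1, 0, 1,
  -1, 1, 0, 0, 0], [-1, -1, 0, 1, 0, 0, 0, 0], [-1, 1, 0, 0, 0, 0, 0, 0], [1, 0, 0, 0, 0, 0, 0, -1], [1, 0, 0,
  0, 0, 0, -1, 1], [1, 0, 0, 0, 0, -1, 1, 0], [1, 0, 0, 0, -1, 1, 0, 0], [1, 0, 0, -1, 1, 0, 0, 0], [1, -1,
  -1, 1, 0, 0, 0, 0], [0, -1, 1, 0, 0, 0, 0, 0], [1, 1, -1, 0, 0, 0, 0, 0], [0, 1, 1, -1, 0, 0, 0, 0], [0, 0,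
  0, 1, -1, 0, 0, 0], [0, 0, 0, 0, 1, -1, 0, 0], [0, 0, 0, 0, 0, 1, -1, 0], [0, 0, 0, 0, 0, 0, 1, -1], [0, 0,
  0, 0, 0, 0, 0, 1]]

theorem cols_eq : ∀ s < 240, ((List.range 8).map fun i => chevE8.cartan i s) = colsE8.getD s [] := by
  decide +kernel

theorem cols_nodup : colsE8.Nodup := by decide +kernel

theorem cols_bound : ∀ c ∈ colsE8, ∀ x ∈ c, x.natAbs ≤ 2 := by decide +kernel

theorem cols_length : colsE8.length = 240 := by decide +kernel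

theorem cartan_bound (i s : ℕ) (hi : i < 8) (hs : s < 240) : (chevE8.cartan i s).natAbs ≤ 2 := by
  have h1 : chevE8.cartan i s ∈ ((List.range 8).map fun i => chevE8.cartan i s) :=
    List.mem_map.mpr ⟨i, List.mem_range.mpr hi, rfl⟩
  rw [cols_eq s hs] at h1
  have hs' : s < colsE8.length := by rw [cols_length]; exact hs
  rw [List.getD_eq_getElem _ _ hs'] at h1
  exact cols_bound _ (List.getElem_mem hs') _ h1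

/-- roots with the same Cartan integers are equal -/
theorem root_eq_of_cartan (s s' : ℕ) (hs : s < 240) (hs' : s' < 240)
    (h : ∀ i < 8, chevE8.cartan i s = chevE8.cartan i s') : s = s' := by
  have h1 : ((List.range 8).map fun i => chevE8.cartan i s) = ((List.range 8).map fun i => chevE8.cartan i s') :=
    List.map_congr_left fun i hi => h i (List.mem_range.mp hi)
  rw [cols_eq s hs, cols_eq s' hs'] at h1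
  have l : s < colsE8.length := by rw [cols_length]; exact hs
  have l' : s' < colsE8.length := by rw [cols_length]; exact hs'
  rw [List.getD_eq_getElem _ _ l, List.getD_eq_getElem _ _ l'] at h1
  exact (List.Nodup.getElem_inj_iff cols_nodup).mp h1

/-- (SEP8) -/
theorem charSepOK_E8 : charSepOK chevE8 = true := by
  unfold charSepOK
  rw [List.all_eq_true]
  intro s hs
  rw [List.all_eq_true]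
  intro s' hs'
  have hs1 : s < 240 := List.mem_range.mp hs
  have hs1' : s' < 240 := List.mem_range.mp hs'
  rw [Bool.or_eq_true]
  by_cases hss : s = s'
  · left
    rw [beq_iff_eq]
    exact hss
  · right
    by_contra hcon
    apply hss
    apply root_eq_of_cartan s s' hs1 hs1'
    intro i hi
    by_contra hne
    apply hcon
    rw [List.any_eq_true]
    refine ⟨i, List.mem_range.mpr hi, ?_⟩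
    rw [Bool.and_eq_true, decide_eq_true_eq, decide_eq_true_eq]
    refine ⟨hne, ?_⟩
    have b1 := cartan_bound i s hi hs1
    have b2 := cartan_bound i s' hi hs1'
    omega

end Cfsg.Agent.Helper36.TorD.Tab8
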