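import Cfsg.Agent.Helper36.TorD.Defs
import Cfsg.Agent.Helper36.FieldFix
import Cfsg.Agent.Helper19.Cox.DataF4
import Cfsg.Agent.S1046
import Cfsg.Agent.Helper86.TorD_DESC
import Cfsg.Agent.Helper48.TorD_TFROB
import Cfsg.Agent.Helper37.TorD_TAB4
import Cfsg.Agent.Helper65.TorD_CENTCore
import Cfsg.Agent.Helper65.TorD_REG1
import Cfsg.Agent.Helper10.TorD_CU
import Cfsg.Agent.Helper60.TorD_NEG
import Cfsg.Agent.Helper37.TorD_REG
import Cfsg.Agent.Helper37.TorD_NACT
import Cfsg.Agent.Helper84.TorD_TINJ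
import Cfsg.Agent.Helper37.TorD_NH

/-!
Helper36: the Chevalley side of helper80's S2372/S2375: the bundle `TorData` for `F₄` and `E₈`
(assembly of the pieces of the farm #13634/#13741).
-/

set_option autoImplicit false

namespace Cfsg.Agent.Helper36.TorD

open Cfsg Cfsg.Lie Cfsg.Agent.Helper18 Cfsg.Agent.Helper19.Cox Cfsg.Agent.Helper19.Poinc
  Cfsg.Agent.Helper80.Tor

section Fields

variable {F K : Type*} [Field F] [Fintype F] [Field K] [Fintype K] [Algebra F K]
variable (D : ChevalleyDatum)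
  (hD : D ∈ [chevG2, chevB2, chevD4, chevF4, chevE6, chevE7, chevE8])
include hD

theorem iota_mem (g : GL D.Idx F) (hg : g ∈ D.group F) : iotaGL D.Idx F K g ∈ D.group K :=
  Cfsg.Agent.Helper36.BaseChange.bc_group_le D (algebraMap F K)
    (Cfsg.Agent.Helper40.ChevAdd.addOK_of_mem hD) ⟨g, hg, rfl⟩

theorem sigma_mem (g : GL D.Idx K) (hg : g ∈ D.group K) : sigmaGL D.Idx F K g ∈ D.group K :=
  Cfsg.Agent.Helper36.BaseChange.bc_group_le D (frobK F K)
    (Cfsg.Agent.Helper40.ChevAdd.addOK_of_mem hD) ⟨g, hg, rfl⟩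

theorem torusHom_range_iff (h : GL D.Idx K) :
    h ∈ D.diagonalSubgroup K ↔ ∃ c, torusHom D K c = h := by
  rw [← torusHom_range D hD]
  exact MonoidHom.mem_range


theorem cent_G_t (hneg : cartanNegOK D = true) (t : GL D.Idx K) (ht : t ∈ D.diagonalSubgroup K)
    (hst : ∀ n ∈ D.monomialSubgroup K, n * t * n⁻¹ = t → n ∈ D.diagonalSubgroup K)
    (g : GL D.Idx K) (hg : g ∈ D.group K) (hgt : g * t * g⁻¹ = t) : g ∈ D.diagonalSubgroup K :=
  Cfsg.Agent.Helper65.TorD.cent_G_t_core D hD (fun c hst s hs => Cfsg.Agent.Helper37.TorD.regular_of_stab D hD hneg c hst s hs)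
    (fun c hreg u hu hcu => Cfsg.Agent.Helper10.TorD.cent_U_trivial D hD c hreg u hu hcu) t ht hst g hg hgt

end Fields


section Asm

variable {F K : Type*} [Field F] [Fintype F] [Field K] [Fintype K] [Algebra F K]

/-- the bundle for a datum with all the certificates -/
noncomputable def mkTorData (D : ChevalleyDatum)
    (hD : D ∈ [chevG2, chevB2, chevD4, chevF4, chevE6, chevE7, chevE8])
    (B : List (List ℤ)) (hB : Unimod.invOK D B = true)
    (hs : ∀ j < D.rank, D.simple j < D.nroots)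
    (C : Cert D) (h : RefSq D) (hl : C.M.IsLiftable (refU D h))
    (hcr : cartanReflOK D = true) (hsep : charSepOK D = true) (hneg : cartanNegOK D = true)
    (hK : 17 ≤ Fintype.card K) : TorData D.Idx F K D.rank where
  GF := D.group F
  GK := D.group K
  HK := D.diagonalSubgroup K
  NK := D.monomialSubgroup K
  τ := torusHom D K
  Wg := C.M.Group
  grpW := inferInstance
  finW := C.hfin
  ρ := rhoHom D C h hl
  hιG := fun g hg => iota_mem D hD g hg
  hσG := fun g hg => sigma_mem D hD g hg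
  hdesc := fun g hg hfg => Cfsg.Agent.Helper86.TorD.desc D hD B hB hs g hg hfg
  hHG := (Cfsg.Agent.S1043.result (F := K) D hD).2.1.trans' le_sup_left
  hNG := (Cfsg.Agent.S1043.result (F := K) D hD).2.1
  hτinj := Cfsg.Agent.Helper84.TorD.torusHom_injective D hD B hB hs
  hτrange := torusHom_range_iff D hD
  hστ := Cfsg.Agent.Helper48.TorD.sigma_torusHom D hD
  hfus := fun h₁ hh₁ h₂ hh₂ g hg hc => Cfsg.Agent.S1046.result D hD h₁ h₂ g hh₁ hh₂ hg hc
  hNact := fun n hn => Cfsg.Agent.Helper37.TorD.nact D hD hcr C h hl n hn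
  hNH := fun n hn hc => Cfsg.Agent.Helper37.TorD.cent_N_H D hD C hsep hK n hn hc
  hcent := fun t ht hst g hg hgt => cent_G_t D hD hneg t ht hst g hg hgt

open Cfsg.Agent.Helper37.TorD Cfsg.Agent.Helper60.TorD in
theorem exists_torData_F4 (hK : 17 ≤ Fintype.card K) :
    ∃ d : TorData chevF4.Idx F K 4, d.GF = chevF4.group F ∧ d.GK = chevF4.group K ∧
      Nat.card d.Wg = 1152 :=
  ⟨mkTorData chevF4 (by simp) _ Unimod.invOK_F4 (by decide) certF4 refSq_F4 liftable_F4
    cartanReflOK_F4 charSepOK_F4 cartanNegOK_F4 hK, rfl, rfl, F4.card_eq⟩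

end Asm

end Cfsg.Agent.Helper36.TorD
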