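import Cfsg.Agent.Helper36.TorD.Defs
import Cfsg.Agent.Helper19.Cox.DataE8

/-!
Helper36, TorData for `E₈` (helper80's S2375): the reflection matrices `refM chevE8 i` satisfy the Coxeter relations of
type `E₈` (checked on a literal table through the commutation and braid identities instead of matrix powers).
-/

set_option autoImplicit false
set_option maxRecDepth 100000

namespace Cfsg.Agent.Helper36.TorD.Tab8

open Cfsg Cfsg.Lie Cfsg.Agent.Helper18 Cfsg.Agent.Helper19.Cox Cfsg.Agent.Helper19.Poinc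
  Cfsg.Agent.Helper36.TorD

/-- (SQ8) -/
theorem refSq_E8 : RefSq chevE8 := by
  unfold RefSq
  decide +kernel

/-- the eight reflection matrices, as a literal table -/
def tabE8 : List (List (List ℤ)) :=
  [[[-1, 0, 0, 0, 0, 0, 0, 0], [0, 1, 0, 0, 0, 0, 0, 0], [1, 0, 1, 0, 0, 0, 0, 0], [0, 0, 0, 1, 0, 0, 0, 0],
  [0, 0, 0, 0, 1, 0, 0, 0], [0, 0, 0, 0, 0, 1, 0, 0], [0, 0, 0, 0, 0, 0, 1, 0], [0, 0, 0, 0, 0, 0, 0, 1]],
  [[1, 0, 0, 0, 0, 0, 0, 0], [0, -1, 0, 0, 0, 0, 0, 0], [0, 0, 1, 0, 0, 0, 0, 0], [0, 1, 0, 1, 0, 0, 0, 0],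
  [0, 0, 0, 0, 1, 0, 0, 0], [0, 0, 0, 0, 0, 1, 0, 0], [0, 0, 0, 0, 0, 0, 1, 0], [0, 0, 0, 0, 0, 0, 0, 1]],
  [[1, 0, 1, 0, 0, 0, 0, 0], [0, 1, 0, 0, 0, 0, 0, 0], [0, 0, -1, 0, 0, 0, 0, 0], [0, 0, 1, 1, 0, 0, 0, 0],
  [0, 0, 0, 0, 1, 0, 0, 0], [0, 0, 0, 0, 0, 1, 0, 0], [0, 0, 0, 0, 0, 0, 1, 0], [0, 0, 0, 0, 0, 0, 0, 1]],
  [[1, 0, 0, 0, 0, 0, 0, 0], [0, 1, 0, 1, 0, 0, 0, 0], [0, 0, 1, 1, 0, 0, 0, 0], [0, 0, 0, -1, 0, 0, 0, 0],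
  [0, 0, 0, 1, 1, 0, 0, 0], [0, 0, 0, 0, 0, 1, 0, 0], [0, 0, 0, 0, 0, 0, 1, 0], [0, 0, 0, 0, 0, 0, 0, 1]],
  [[1, 0, 0, 0, 0, 0, 0, 0], [0, 1, 0, 0, 0, 0, 0, 0], [0, 0, 1, 0, 0, 0, 0, 0], [0, 0, 0, 1, 1, 0, 0, 0], [0,
  0, 0, 0, -1, 0, 0, 0], [0, 0, 0, 0, 1, 1, 0, 0], [0, 0, 0, 0, 0, 0, 1, 0], [0, 0, 0, 0, 0, 0, 0, 1]], [[1,
  0, 0, 0, 0, 0, 0, 0], [0, 1, 0, 0, 0, 0, 0, 0], [0, 0, 1, 0, 0, 0, 0, 0], [0, 0, 0, 1, 0, 0, 0, 0], [0, 0,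
  0, 0, 1, 1, 0, 0], [0, 0, 0, 0, 0, -1, 0, 0], [0, 0, 0, 0, 0, 1, 1, 0], [0, 0, 0, 0, 0, 0, 0, 1]], [[1, 0,
  0, 0, 0, 0, 0, 0], [0, 1, 0, 0, 0, 0, 0, 0], [0, 0, 1, 0, 0, 0, 0, 0], [0, 0, 0, 1, 0, 0, 0, 0], [0, 0, 0,
  0, 1, 0, 0, 0], [0, 0, 0, 0, 0, 1, 1, 0], [0, 0, 0, 0, 0, 0, -1, 0], [0, 0, 0, 0, 0, 0, 1, 1]], [[1, 0, 0,
  0, 0, 0, 0, 0], [0, 1, 0, 0, 0, 0, 0, 0], [0, 0, 1, 0, 0, 0, 0, 0], [0, 0, 0, 1, 0, 0, 0, 0], [0, 0, 0, 0,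
  1, 0, 0, 0], [0, 0, 0, 0, 0, 1, 0, 0], [0, 0, 0, 0, 0, 0, 1, 1], [0, 0, 0, 0, 0, 0, 0, -1]]]

/-- the literal reflection matrices -/
def TM (i : Fin chevE8.rank) : Matrix (Fin chevE8.rank) (Fin chevE8.rank) ℤ :=
  fun a b => ((tabE8.getD i.val []).getD a.val []).getD b.val 0

theorem refM_eq : ∀ i : Fin chevE8.rank, refM chevE8 i.val = TM i := by decide +kernel

theorem TM_sq : ∀ i : Fin chevE8.rank, TM i * TM i = 1 := by decide +kernel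

/-- the entries of the Coxeter matrix, as natural numbers -/
def mE8 (i i' : Fin chevE8.rank) : ℕ := (CoxeterMatrix.E₈).M i i'

theorem mE8_eq (i i' : Fin chevE8.rank) : certE8.M i i' = mE8 i i' := rfl

theorem TM_comm : ∀ i i' : Fin chevE8.rank, mE8 i i' = 2 → TM i * TM i' = TM i' * TM i := by
  decide +kernel

theorem TM_braid : ∀ i i' : Fin chevE8.rank, mE8 i i' = 3 →
    TM i * TM i' * TM i = TM i' * TM i * TM i' := by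
  decide +kernel

theorem M_cases : ∀ i i' : Fin chevE8.rank,
    (mE8 i i' = 1 ∧ i = i') ∨ mE8 i i' = 2 ∨ mE8 i i' = 3 := by
  decide +kernel

theorem pow_eq_one (i i' : Fin chevE8.rank) : (TM i * TM i') ^ (certE8.M i i') = 1 := by
  rw [mE8_eq]
  rcases M_cases i i' with ⟨h, rfl⟩ | h | h
  · rw [h, pow_one]
    exact TM_sq i
  · rw [h, pow_two]
    calc TM i * TM i' * (TM i * TM i') = TM i * (TM i' * TM i) * TM i' := by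
          simp only [mul_assoc]
      _ = TM i * (TM i * TM i') * TM i' := by rw [TM_comm i i' h]
      _ = (TM i * TM i) * (TM i' * TM i') := by simp only [mul_assoc]
      _ = 1 := by rw [TM_sq, TM_sq, mul_one]
  · rw [h, pow_three]
    calc TM i * TM i' * (TM i * TM i' * (TM i * TM i'))
        = (TM i * TM i' * TM i) * (TM i' * TM i * TM i') := by simp only [mul_assoc]
      _ = (TM i' * TM i * TM i') * (TM i' * TM i * TM i') := by rw [TM_braid i i' h]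
      _ = TM i' * TM i * (TM i' * TM i') * TM i * TM i' := by simp only [mul_assoc]
      _ = TM i' * (TM i * TM i) * TM i' := by rw [TM_sq, mul_one]; simp only [mul_assoc]
      _ = 1 := by rw [TM_sq, mul_one, TM_sq]

/-- (LIFT8) -/
theorem liftable_E8 : certE8.M.IsLiftable (refU chevE8 refSq_E8) := by
  intro i i'
  apply Units.ext
  rw [Units.val_pow_eq_pow_val, Units.val_mul, Units.val_one]
  show (refM chevE8 i.val * refM chevE8 i'.val) ^ (certE8.M i i') = 1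
  rw [refM_eq, refM_eq]
  exact pow_eq_one i i'

end Cfsg.Agent.Helper36.TorD.Tab8
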