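import Cfsg.Agent.Helper36.TorD.Main
import Cfsg.Agent.Helper36.TorD.Tab8
import Cfsg.Agent.Helper36.TorD.Tab8b
import Cfsg.Agent.Helper19.Cox.DataE8

/-!
Helper36: the Chevalley side of helper80's S2375: the bundle `TorData` for `E₈`.
-/

set_option autoImplicit false

namespace Cfsg.Agent.Helper36.TorD

open Cfsg Cfsg.Lie Cfsg.Agent.Helper18 Cfsg.Agent.Helper19.Cox Cfsg.Agent.Helper19.Poinc
  Cfsg.Agent.Helper80.Tor

section Asm

variable {F K : Type*} [Field F] [Fintype F] [Field K] [Fintype K] [Algebra F K]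

open Cfsg.Agent.Helper60.TorD Cfsg.Agent.Helper36.TorD.Tab8 in
theorem exists_torData_E8 (hK : 17 ≤ Fintype.card K) :
    ∃ d : TorData chevE8.Idx F K 8, d.GF = chevE8.group F ∧ d.GK = chevE8.group K ∧
      Nat.card d.Wg = 696729600 :=
  ⟨mkTorData chevE8 (by simp) _ Unimod.invOK_E8 (by decide) certE8 refSq_E8 liftable_E8
    cartanReflOK_E8 charSepOK_E8 cartanNegOK_E8 hK, rfl, rfl, E8.card_eq⟩

end Asm

end Cfsg.Agent.Helper36.TorD
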